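import Cfsg.Agent.H631.CY.Invol
import Cfsg.Agent.H954.DR.RowG2
import Cfsg.Agent.H245.DG.GTwo
import Cfsg.Agent.S4613
import Cfsg.Agent.S1055
import Cfsg.Agent.H776.CY.Congr

/-!
# S4829, own characteristic: `G₂(3)` (helper631)

The rational irreducible character of degree `91` (the constituent of degree `q (q⁴ + q² + 1) / 3` of the permutation
character on the points of the generalised hexagon) and `rowA_of_invol`.
-/

set_option autoImplicit false

open Cfsg

namespace Cfsg.Agent.H631.CY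

open CoxeterSystem Cfsg.Agent.ChevalleyStructure.CoxeterGeom Cfsg.Agent.Tits.Roots Cfsg.Agent.Tits.Core
  Cfsg.Agent.Nodes.Reps Cfsg.Agent.Nodes.BNOf Cfsg.Agent.Nodes.Bruhat Cfsg.Agent.Nodes.LeviDec
open Cfsg.Lie Cfsg.Agent.ChevalleyStructure
  Cfsg.Agent.ChevalleyStructure.CoxeterGeomTypes
open Cfsg.Agent.Nodes.RGDChev Cfsg.Agent.H35.ExcIdx Cfsg.Agent.H115.HC.GTwo

/-- the rational character of degree `91` -/
theorem exists_91 {F : Type} [Field F] [Fintype F] (hF : Fintype.card F = 3) :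
    ∃ χ : ↥(chevG2.group F) → ℂ, IsIrrCharacter ↥(chevG2.group F) χ ∧ (∀ g, ∃ r : ℚ, χ g = r) ∧ χ 1 = (91 : ℕ) := by
  obtain ⟨p, hch⟩ := CharP.exists F
  obtain ⟨⟨f, hf⟩, hpp, hcard⟩ := FiniteField.card F p
  have : Fact p.Prime := ⟨hpp⟩
  have hfin := finite_W hpG2 CoxeterMatrix.G₂.toCoxeterSystem
  have R := rgd (K := F) hpG2 CoxeterMatrix.G₂.toCoxeterSystem p
  have hG := GG_eq_top hpG2 F CoxeterMatrix.G₂.toCoxeterSystem
  have hX : ∀ i, Nat.card ↥(XX chevG2 2 F (sr i)) = 3 := by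
    intro i
    rw [card_XX hpG2 F CoxeterMatrix.G₂.toCoxeterSystem (isRoot_sr _ hpG2.isCartan i), Nat.card_eq_fintype_card, hF]
  have hij : (0 : Fin 2) ≠ 1 := by decide
  have hI : ∀ k : Fin 2, k = 0 ∨ k = 1 := by decide
  have hM : CoxeterMatrix.G₂ 0 1 = 6 := by decide
  exact H954.DR.RkTwo.g2_low R hG hij hI (hX 1) (hX 0) hM (by norm_num) (by norm_num) 91 (by norm_num)

end Cfsg.Agent.H631.CY

namespace Cfsg.Agent.H631.CY

open Cfsg.Lie Cfsg.Agent.ChevalleyStructure.Elts Cfsg.Agent.Schreier.ChevLocal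
open Cfsg.Agent.H70.ChevFix Cfsg.Agent.H70.ChevField Cfsg.Agent.H70.OutCount
open Cfsg.Agent.H490.G2 Cfsg.Agent.H245.DG.G2

variable {F : Type} [Field F] [Fintype F]

/-- the automorphisms of `G₂(3)` -/
theorem aut_G2_three (hF : Fintype.card F = 3) :
    ∃ r : MulAut (K F), r * r = 1 ∧ ∀ a : MulAut (K F), ∃ g : K F, a = MulAut.conj g ∨ a = MulAut.conj g * r := by
  have hN : Nat.card F = 3 := by rw [Nat.card_eq_fintype_card, hF]
  have h3 : (3 : F) = 0 := by
    have := FiniteField.cast_card_eq_zero F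
    rw [hF] at this
    exact_mod_cast this
  have := charP_three h3
  obtain ⟨ρ, hρ⟩ := exists_graph (F := F)
  refine ⟨ρ, ?_, fun a => ?_⟩
  · obtain ⟨i1, i2, i3, i4⟩ := hρ.pow_even 1
    have hp : ∀ t : F, t ^ 3 ^ 1 = t := fun t => by
      have := FiniteField.pow_card t
      rwa [hF] at this
    have h : ρ ^ (2 * 1) = 1 := by
      apply ext4 <;> intro t
      · rw [i1, hp]; rfl
      · rw [i2, hp]; rfl
      · rw [i3, hp]; rfl
      · rw [i4, hp]; rfl
    rwa [mul_one, pow_two] at h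
  · obtain ⟨g, τ, α, hα, h⟩ := aut_three hρ a
    have hα1 : α = 1 := by
      apply ext4 <;> intro t
      · rw [hα 7 (by norm_num), field_trivial hN]; rfl
      · rw [hα 6 (by norm_num), field_trivial hN]; rfl
      · rw [hα 4 (by norm_num), field_trivial hN]; rfl
      · rw [hα 5 (by norm_num), field_trivial hN]; rfl
    refine ⟨g, ?_⟩
    rw [hα1, mul_one, mul_one] at h
    exact h

/-- **`G₂(3)`.** -/
theorem rowA_G2_three' (hF : Fintype.card F = 3) [Fintype ↥(chevG2.group F)] : H770.CY.RowA 3 ↥(chevG2.group F) := by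
  have : Fact (Nat.Prime 3) := ⟨Nat.prime_three⟩
  have h3 : (3 : F) = 0 := by
    have := FiniteField.cast_card_eq_zero F
    rw [hF] at this
    exact_mod_cast this
  have hch := charP_three h3
  have h2 : ∃ a : F, a ≠ 0 ∧ a ≠ 1 := by
    by_contra hcon
    push Not at hcon
    have h4 : Fintype.card F ≤ 2 := by
      classical
      have h5 : (Finset.univ : Finset F) ⊆ {0, 1} := by
        intro x _
        by_cases hx : x = 0
        · simp [hx]
        · simp [hcon x hx]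
      exact (Finset.card_le_card h5).trans Finset.card_le_two
    omega
  obtain ⟨hs, hna⟩ := Cfsg.Agent.S1055.result h2
  obtain ⟨χ, hχ, hr, h1⟩ := exists_91 hF
  obtain ⟨r, hr2, hOut⟩ := aut_G2_three hF
  have hdeg : charDegree χ = 91 := by
    have h5 := Blocks.Basic.irr_one_eq_charDegree hχ
    rw [h1] at h5
    exact_mod_cast h5.symm
  refine rowA_of_invol (p := 3) (by norm_num) (H661.OC.conj_injective hna) (fun a ha hQ => ?_) hr2 hOut ⟨χ, hχ⟩ ?_ ?_ ?_ hr
  · obtain ⟨Q, hQ⟩ := hQ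
    refine Cfsg.Agent.S4613.result 3 ?_ a ha Q hQ
    refine Or.inr (Or.inr (Or.inr (Or.inr (Or.inr (Or.inr (Or.inl ⟨F, inferInstance, inferInstance, hch, Or.inl
      ⟨by omega, ⟨MulEquiv.refl _⟩⟩⟩))))))
  · intro h
    have h5 : χ 1 = 1 := congrFun h 1
    rw [h1] at h5
    norm_num at h5
  · show Odd (charDegree χ)
    rw [hdeg]
    decide
  · show ¬ 3 ∣ charDegree χ
    rw [hdeg]
    norm_num

/-- **The row `G₂(3)` of S4829, `p = 3`.** -/
theorem rowA_G2_three {S : Type} [Group S] [Fintype S] (hF : Fintype.card F = 3) (e : S ≃* ↥(chevG2.group F)) :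
    H770.CY.RowA 3 S := by
  have : Fintype ↥(chevG2.group F) := Fintype.ofEquiv S e.toEquiv
  exact H776.CY.RowA.congr e (rowA_G2_three' hF)

end Cfsg.Agent.H631.CY
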