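import Cfsg.Agent.H661.OC.OwnRX
import Cfsg.Agent.Blocks.Over

/-!
# S4829, own characteristic: `|Out S| ≤ 2` with an outer involution (helper631)

`rowA_of_invol` : `θ` a nontrivial rational irreducible character of `S` of odd degree prime to `p`, `Aut S` the union of
`Inn S` and `Inn S ρ`, `ρ² = 1`, and no `p`-regular automorphism centralizes a Sylow `p`-subgroup of `S`. Any irreducible
character of `A` over `θ` is `Cyc p`.
-/

set_option autoImplicit false

open Cfsg

namespace Cfsg.Agent.H631.CY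

open Cfsg.Agent.Characters Cfsg.Agent.H770.CY Cfsg.Agent.H661.OC
open scoped ComplexConjugate

universe u

/-- the value of a character of odd degree at an involution is not zero -/
theorem ne_zero_of_invol {G : Type u} [Group G] {χ : G → ℂ} (hχ : IsCharacter G χ) {r : G} (hr : r * r = 1) {d : ℕ}
    (hd : χ 1 = d) (hodd : Odd d) : χ r ≠ 0 := by
  obtain ⟨n, μ, h1, h2, h3⟩ := GaloisBasic.isCharacter_exists_fin_pow hχ r (n := 2) two_ne_zero (by rw [pow_two, hr])
  have hn : n = d := by
    have : (n : ℂ) = d := by rw [← h1, hd]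
    exact_mod_cast this
  subst hn
  have h4 : ∀ i, ∃ z : ℤ, μ i = 1 - 2 * (z : ℂ) := by
    intro i
    rcases mul_self_eq_one_iff.1 (by rw [← pow_two]; exact h2 i : μ i * μ i = 1) with h | h
    · exact ⟨0, by rw [h]; norm_num⟩
    · exact ⟨1, by rw [h]; norm_num⟩
  choose z hz using h4
  have h5 := h3 1
  rw [pow_one] at h5
  have h6 : χ r = ((n - 2 * ∑ i, z i : ℤ) : ℂ) := by
    rw [h5]
    have h7 : ∀ i, μ i ^ 1 = 1 - 2 * (z i : ℂ) := fun i => by rw [pow_one, hz i]
    rw [Finset.sum_congr rfl fun i _ => h7 i, Finset.sum_sub_distrib, ← Finset.mul_sum]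
    simp
  rw [h6]
  intro h7
  have h8 : (n : ℤ) - 2 * ∑ i, z i = 0 := by exact_mod_cast h7
  obtain ⟨m, hm⟩ := hodd
  omega

/-- a rational valued character is fixed by the powers coprime to the order -/
theorem pow_of_rat {G : Type u} [Group G] [Finite G] {χ : G → ℂ} (hχ : IsCharacter G χ) (h : ∀ g, ∃ q : ℚ, χ g = q)
    {k : ℕ} (hk : k.Coprime (Nat.card G)) (g : G) : χ (g ^ k) = χ g := by
  obtain ⟨σ, hσ⟩ := GaloisBasic.exists_ringEquiv_of_coprime hk
  obtain ⟨q, hq⟩ := h g
  rw [← hσ χ hχ g, hq, map_ratCast]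

section main

variable {p : ℕ} {S : Type u} [Group S] [Fintype S]

/-- the constituents of the restriction to `S` are conjugate -/
theorem conj_of {A : Subgroup (MulAut S)} (hA : ∀ s : S, MulAut.conj s ∈ A)
    (hinj : Function.Injective (MulAut.conj : S →* MulAut S)) {χ : A → ℂ} (hχ : IsIrrCharacter A χ) {θ θ' : S → ℂ}
    (hθ : IsIrrCharacter S θ) (hθ' : IsIrrCharacter S θ') (h1 : classInner (res hA χ) θ ≠ 0)
    (h2 : classInner (res hA χ) θ' ≠ 0) : ∃ a : A, ∀ s, θ' s = θ ((a : MulAut S) s) := by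
  classical
  have : Fintype A := Fintype.ofFinite _
  let ι : S →* A := (MulAut.conj : S →* MulAut S).codRestrict A hA
  have hι : Function.Injective ι := fun x y h => hinj (congrArg Subtype.val h)
  have hn : ι.range.Normal := range_normal A hA
  have : Fintype ι.range := Fintype.ofFinite _
  let e : S ≃* ι.range := MonoidHom.ofInjective hι
  have key : ∀ φ : S → ℂ, classInner (fun n : ι.range => χ n) (φ ∘ e.symm) = classInner (res hA χ) φ := by
    intro φ
    have h3 := Clifford.classInner_comp_mulEquiv e (fun n : ι.range => χ n) (φ ∘ e.symm)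
    rw [← h3]
    congr 1
    funext s
    show φ (e.symm (e s)) = φ s
    rw [MulEquiv.symm_apply_apply]
  obtain ⟨g, hg⟩ := Clifford.exists_conj_of_constituents ι.range hχ
    (Core.isIrr_comp (e.symm : ι.range →* S) e.symm.surjective hθ)
    (Core.isIrr_comp (e.symm : ι.range →* S) e.symm.surjective hθ') (by
      show classInner (fun n : ι.range => χ n) (θ ∘ e.symm) ≠ 0
      rwa [key]) (by
      show classInner (fun n : ι.range => χ n) (θ' ∘ e.symm) ≠ 0
      rwa [key])
  refine ⟨g, fun s => ?_⟩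
  have h4 := congrFun hg (e s)
  have h5 : θ' (e.symm (e s)) = θ (e.symm ((MulAut.conjNormal g : MulAut ι.range) (e s))) := h4
  have h6 : (MulAut.conjNormal g : MulAut ι.range) (e s) = e ((g : MulAut S) s) := by
    apply Subtype.ext
    rw [MulAut.conjNormal_apply]
    apply Subtype.ext
    apply MulEquiv.ext
    intro x
    show (g : MulAut S) (s * (g : MulAut S)⁻¹ x * s⁻¹) = (g : MulAut S) s * x * ((g : MulAut S) s)⁻¹
    rw [map_mul, map_mul, map_inv, MulAut.apply_inv_self]
  rw [h6, MulEquiv.symm_apply_apply, MulEquiv.symm_apply_apply] at h5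
  exact h5

/-- over an irreducible character of `S` there is one of `A` -/
theorem exists_over {A : Subgroup (MulAut S)} (hA : ∀ s : S, MulAut.conj s ∈ A)
    (hinj : Function.Injective (MulAut.conj : S →* MulAut S)) (θ : IrrCharacter S) :
    ∃ χ : IrrCharacter A, classInner (res hA (χ : A → ℂ)) (θ : S → ℂ) ≠ 0 := by
  classical
  have : Fintype A := Fintype.ofFinite _
  let ι : S →* A := (MulAut.conj : S →* MulAut S).codRestrict A hA
  have hι : Function.Injective ι := fun x y h => hinj (congrArg Subtype.val h)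
  have : Fintype ι.range := Fintype.ofFinite _
  let e : S ≃* ι.range := MonoidHom.ofInjective hι
  obtain ⟨χ, hχ⟩ := Blocks.Over.exists_over ι.range
    ⟨(θ : S → ℂ) ∘ e.symm, Core.isIrr_comp (e.symm : ι.range →* S) e.symm.surjective θ.2⟩
  refine ⟨χ, fun h => hχ ?_⟩
  rw [← h]
  have h3 := Clifford.classInner_comp_mulEquiv e (fun n : ι.range => (χ : A → ℂ) n) ((θ : S → ℂ) ∘ e.symm)
  rw [← h3]
  congr 1
  funext s
  show (θ : S → ℂ) (e.symm (e s)) = (θ : S → ℂ) s
  rw [MulEquiv.symm_apply_apply]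

theorem sum_normSq {G : Type u} [Group G] [Fintype G] {χ : G → ℂ} {m : ℕ} (h : classInner χ χ = m) :
    ∑ g : G, Complex.normSq (χ g) = Nat.card G * m := by
  rw [Core.classInner_self_eq_ofReal] at h
  have h1 : (Nat.card G : ℝ)⁻¹ * ∑ g : G, Complex.normSq (χ g) = m := by exact_mod_cast h
  have h2 : (Nat.card G : ℝ) ≠ 0 := Nat.cast_ne_zero.2 Nat.card_pos.ne'
  rw [← h1, mul_inv_cancel_left₀ h2]

/-- the sum over the inner automorphisms is at most the sum over `A` -/
theorem sum_split {A : Subgroup (MulAut S)} [Fintype A] (hA : ∀ s : S, MulAut.conj s ∈ A)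
    (hinj : Function.Injective (MulAut.conj : S →* MulAut S)) {f : A → ℝ} (hf : ∀ a, 0 ≤ f a) {a : A}
    (ha : (a : MulAut S) ∉ (MulAut.conj : S →* MulAut S).range) :
    ∑ s : S, f ⟨MulAut.conj s, hA s⟩ + f a ≤ ∑ b : A, f b := by
  classical
  let j : S ↪ A := ⟨fun s => ⟨MulAut.conj s, hA s⟩, fun x y h => hinj (congrArg Subtype.val h)⟩
  have h1 : ∑ s : S, f ⟨MulAut.conj s, hA s⟩ = ∑ b ∈ Finset.univ.map j, f b := by
    rw [Finset.sum_map]
    rfl
  have h2 : a ∉ Finset.univ.map j := by
    intro h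
    obtain ⟨s, -, hs⟩ := Finset.mem_map.1 h
    exact ha ⟨s, congrArg Subtype.val hs⟩
  rw [h1, add_comm, ← Finset.sum_insert h2]
  exact Finset.sum_le_sum_of_subset_of_nonneg (Finset.subset_univ _) fun b _ _ => hf b

theorem sum_le {A : Subgroup (MulAut S)} [Fintype A] (hA : ∀ s : S, MulAut.conj s ∈ A)
    (hinj : Function.Injective (MulAut.conj : S →* MulAut S)) {f : A → ℝ} (hf : ∀ a, 0 ≤ f a) :
    ∑ s : S, f ⟨MulAut.conj s, hA s⟩ ≤ ∑ b : A, f b := by
  classical
  let j : S ↪ A := ⟨fun s => ⟨MulAut.conj s, hA s⟩, fun x y h => hinj (congrArg Subtype.val h)⟩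
  have h1 : ∑ s : S, f ⟨MulAut.conj s, hA s⟩ = ∑ b ∈ Finset.univ.map j, f b := by
    rw [Finset.sum_map]
    rfl
  rw [h1]
  exact Finset.sum_le_sum_of_subset_of_nonneg (Finset.subset_univ _) fun b _ _ => hf b

/-- **The row when `|Out S| ≤ 2` and there is an outer involution.** -/
theorem rowA_of_invol [Fact p.Prime] (hp2 : p ≠ 2) (hinj : Function.Injective (MulAut.conj : S →* MulAut S))
    (hC : ∀ a : MulAut S, ¬ p ∣ orderOf a → (∃ Q : Sylow p S, ∀ x ∈ Q, a x = x) → a = 1)
    {r : MulAut S} (hr : r * r = 1) (hOut : ∀ a : MulAut S, ∃ g : S, a = MulAut.conj g ∨ a = MulAut.conj g * r)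
    (θ : IrrCharacter S) (hne : (θ : S → ℂ) ≠ fun _ => 1) (hodd : Odd (charDegree (θ : S → ℂ)))
    (hpd : ¬ p ∣ charDegree (θ : S → ℂ)) (hrat : ∀ s, ∃ q : ℚ, (θ : S → ℂ) s = q) : RowA p S := by
  classical
  intro A hA M hM
  have : Fintype A := Fintype.ofFinite _
  have hirr : Finite (IrrCharacter S) := Core.finite_irr
  have : Fintype (IrrCharacter S) := Fintype.ofFinite _
  obtain ⟨χ, hχ0⟩ := exists_over hA.1 hinj θ
  let ι : S →* A := (MulAut.conj : S →* MulAut S).codRestrict A hA.1
  have hι : Function.Injective ι := fun x y h => hinj (congrArg Subtype.val h)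
  have hpp : p.Prime := Fact.out
  -- the constituents
  have hall : ∀ θ' : IrrCharacter S, classInner (res hA.1 (χ : A → ℂ)) (θ' : S → ℂ) ≠ 0 →
      (∀ s, ∃ q : ℚ, (θ' : S → ℂ) s = q) ∧ (θ' : S → ℂ) ≠ (fun _ => 1) ∧ (θ' : S → ℂ) 1 = charDegree (θ : S → ℂ) := by
    intro θ' h'
    obtain ⟨a, ha⟩ := conj_of hA.1 hinj χ.2 θ.2 θ'.2 hχ0 h'
    refine ⟨fun s => ?_, fun h1 => hne ?_, ?_⟩
    · rw [ha]
      exact hrat _
    · funext s
      have h2 := ha ((a : MulAut S)⁻¹ s)
      rw [MulAut.apply_inv_self, h1] at h2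
      exact h2.symm
    · rw [ha, map_one]
      exact Blocks.Basic.irr_one_eq_charDegree θ.2
  set ψ : S → ℂ := res hA.1 (χ : A → ℂ) with hψ
  have hψc : IsCharacter S ψ := Core.isCharacter_comp ι (Core.isIrr_isCharacter χ.2)
  have hnat : ∀ θ' : IrrCharacter S, ∃ n : ℕ, classInner ψ (θ' : S → ℂ) = n :=
    fun θ' => Core.classInner_isNat hψc (Core.isIrr_isCharacter θ'.2)
  choose n hn using hnat
  -- the norm
  have hnorm : classInner ψ ψ = ((∑ θ', n θ' ^ 2 : ℕ) : ℂ) := by
    rw [Core.classInner_eq_sum (Core.isCharacter_isClassFunction hψc) (Core.isCharacter_isClassFunction hψc)]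
    push_cast
    refine Finset.sum_congr rfl fun θ' _ => ?_
    rw [hn, Complex.conj_natCast, pow_two]
  have hcardM : Nat.card (MulAut S) ≤ 2 * Nat.card S := by
    have h1 : Function.Surjective (fun x : S × Bool => MulAut.conj x.1 * (if x.2 then r else 1)) := by
      intro a
      obtain ⟨g, h | h⟩ := hOut a
      · exact ⟨(g, false), by simp [h]⟩
      · exact ⟨(g, true), by simp [h]⟩
    have h2 := Nat.card_le_card_of_surjective _ h1
    rw [Nat.card_prod, Nat.card_eq_fintype_card (α := Bool), Fintype.card_bool] at h2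
    omega
  have hcardA : Nat.card A ≤ 2 * Nat.card S := (Subgroup.card_le_card_group A).trans hcardM
  have hS0 : (0 : ℝ) < Nat.card S := by exact_mod_cast Nat.card_pos
  have hAr : (Nat.card A : ℝ) ≤ 2 * Nat.card S := by exact_mod_cast hcardA
  have eA := sum_normSq (m := 1) (by rw [Core.classInner_irr_self χ.2, Nat.cast_one])
  rw [Nat.cast_one, mul_one] at eA
  have eS := sum_normSq hnorm
  have hle := sum_le hA.1 hinj (f := fun a => Complex.normSq ((χ : A → ℂ) a)) fun a => Complex.normSq_nonneg _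
  have hle2 : (∑ θ', n θ' ^ 2) ≤ 2 := by
    have h1 : (Nat.card S : ℝ) * (∑ θ', n θ' ^ 2 : ℕ) ≤ Nat.card S * 2 := by
      rw [← eS]
      refine hle.trans ?_
      rw [eA]
      linarith
    exact_mod_cast le_of_mul_le_mul_left h1 hS0
  have hn1 : ∀ θ', n θ' ≤ 1 := by
    intro θ'
    have h1 : n θ' ^ 2 ≤ ∑ θ', n θ' ^ 2 := Finset.single_le_sum (f := fun θ' => n θ' ^ 2) (fun _ _ => Nat.zero_le _) (Finset.mem_univ θ')
    by_contra h2
    have h3 : 2 ≤ n θ' := by omega
    have h4 : 2 ^ 2 ≤ n θ' ^ 2 := Nat.pow_le_pow_left h3 2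
    omega
  have hsq : ∀ θ', n θ' ^ 2 = n θ' := by
    intro θ'
    have := hn1 θ'
    interval_cases n θ' <;> rfl
  obtain ⟨m, hm⟩ : ∃ m, m = ∑ θ', n θ' := ⟨_, rfl⟩
  have hmm : ∑ θ', n θ' ^ 2 = m := by rw [hm]; exact Finset.sum_congr rfl fun θ' _ => hsq θ'
  rw [hmm] at hle2 eS
  have hm1 : 1 ≤ m := by
    have h1 : n θ ≤ ∑ θ', n θ' := Finset.single_le_sum (f := n) (fun _ _ => Nat.zero_le _) (Finset.mem_univ θ)
    have h2 : n θ ≠ 0 := fun h => hχ0 (by rw [hn, h, Nat.cast_zero])
    omega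
  have hψs : ∀ s, ψ s = ∑ θ' : IrrCharacter S, (n θ' : ℂ) * (θ' : S → ℂ) s := by
    intro s
    conv_lhs => rw [Core.classFunction_eq_sum (Core.isCharacter_isClassFunction hψc)]
    simp only [Finset.sum_apply, Pi.smul_apply, smul_eq_mul]
    exact Finset.sum_congr rfl fun θ' _ => by rw [hn]
  have hdeg : (χ : A → ℂ) 1 = ((m * charDegree (θ : S → ℂ) : ℕ) : ℂ) := by
    have h0 : ψ 1 = (χ : A → ℂ) 1 := congrArg (χ : A → ℂ) (map_one ι)
    rw [← h0, hψs, hm, Finset.sum_mul]
    push_cast
    refine Finset.sum_congr rfl fun θ' _ => ?_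
    by_cases h1 : n θ' = 0
    · rw [h1, Nat.cast_zero, zero_mul, zero_mul]
    · rw [(hall θ' (by rw [hn]; exact_mod_cast h1)).2.2]
  have hpm : ¬ p ∣ m := by
    intro h
    have h1 := Nat.le_of_dvd (by omega) h
    have h2 := hpp.two_le
    omega
  -- `χ` is cyclotomic
  have hcyc : ∀ k : ℕ, k.Coprime (Nat.card A) → ∀ a : A, (χ : A → ℂ) (a ^ k) = (χ : A → ℂ) a := by
    intro k hk a
    have hkS : k.Coprime (Nat.card S) := by
      refine hk.coprime_dvd_right ?_
      rw [Nat.card_congr (MonoidHom.ofInjective hι).toEquiv]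
      exact Subgroup.card_subgroup_dvd_card _
    have hin : ∀ s : S, ψ (s ^ k) = ψ s := by
      intro s
      rw [hψs, hψs]
      refine Finset.sum_congr rfl fun θ' _ => ?_
      by_cases h1 : n θ' = 0
      · rw [h1, Nat.cast_zero, zero_mul, zero_mul]
      · rw [pow_of_rat (Core.isIrr_isCharacter θ'.2) (hall θ' (by rw [hn]; exact_mod_cast h1)).1 hkS]
    by_cases ha : (a : MulAut S) ∈ (MulAut.conj : S →* MulAut S).range
    · obtain ⟨s, hs⟩ := ha
      have h1 : a = ι s := Subtype.ext hs.symm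
      rw [h1, ← map_pow]
      exact hin s
    · by_contra hcon
      let χ' : A → ℂ := fun b => (χ : A → ℂ) (b ^ k)
      have hχ' : IsIrrCharacter A χ' := GaloisIrr.isIrr_pow hk χ.2
      have hne' : χ' ≠ (χ : A → ℂ) := fun h => hcon (congrFun h a)
      have h2 : classInner (χ' + (χ : A → ℂ)) (χ' + (χ : A → ℂ)) = ((2 : ℕ) : ℂ) := by
        rw [Core.classInner_add_left, Core.classInner_add_right, Core.classInner_add_right, Core.classInner_irr_self hχ',
          Core.classInner_irr_self χ.2, Core.classInner_irr_ne hχ' χ.2 hne', Core.classInner_irr_ne χ.2 hχ' hne'.symm]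
        push_cast
        ring
      have e2 := sum_normSq h2
      -- the sum over the inner automorphisms
      have e3 : ∑ s : S, Complex.normSq ((χ' + (χ : A → ℂ)) ⟨MulAut.conj s, hA.1 s⟩) = 4 * (Nat.card S * m) := by
        rw [← eS, Finset.mul_sum]
        refine Finset.sum_congr rfl fun s _ => ?_
        have h3 : (χ' + (χ : A → ℂ)) ⟨MulAut.conj s, hA.1 s⟩ = 2 * ψ s := by
          have h4 : χ' ⟨MulAut.conj s, hA.1 s⟩ = ψ (s ^ k) := by
            show (χ : A → ℂ) (ι s ^ k) = (χ : A → ℂ) (ι (s ^ k))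
            rw [map_pow]
          rw [Pi.add_apply, h4, hin]
          show ψ s + ψ s = 2 * ψ s
          ring
        rw [h3, Complex.normSq_mul]
        norm_num
      have hm1r : (1 : ℝ) ≤ m := by exact_mod_cast hm1
      have hall' : ∀ b : A, (b : MulAut S) ∉ (MulAut.conj : S →* MulAut S).range → (χ' + (χ : A → ℂ)) b = 0 := by
        intro b hb
        have h5 := sum_split hA.1 hinj (f := fun a => Complex.normSq ((χ' + (χ : A → ℂ)) a))
          (fun a => Complex.normSq_nonneg _) hb
        rw [e2, e3] at h5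
        have h6 : Complex.normSq ((χ' + (χ : A → ℂ)) b) ≤ 0 := by
          push_cast at h5
          nlinarith
        exact Complex.normSq_eq_zero.1 (le_antisymm h6 (Complex.normSq_nonneg _))
      -- `m = 1`
      have h7 := sum_split hA.1 hinj (f := fun a => Complex.normSq ((χ : A → ℂ) a)) (fun a => Complex.normSq_nonneg _) ha
      have h8 : m = 1 := by
        by_contra hmne
        have h9 : m = 2 := by omega
        have h10 : (χ : A → ℂ) a = 0 := by
          have e4 : ∑ s : S, Complex.normSq ((χ : A → ℂ) ⟨MulAut.conj s, hA.1 s⟩) = Nat.card S * m := eS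
          rw [eA, e4, h9] at h7
          have h11 : Complex.normSq ((χ : A → ℂ) a) ≤ 0 := by
            push_cast at h7
            linarith
          exact Complex.normSq_eq_zero.1 (le_antisymm h11 (Complex.normSq_nonneg _))
        have h12 := hall' a ha
        rw [Pi.add_apply, h10, add_zero] at h12
        exact hcon (h12.trans h10.symm)
      -- the involution
      have hrA : r ∈ A := by
        obtain ⟨g, h | h⟩ := hOut (a : MulAut S)
        · exact absurd ⟨g, h.symm⟩ ha
        · have h9 : r = (MulAut.conj g)⁻¹ * (a : MulAut S) := by rw [h, inv_mul_cancel_left]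
          rw [h9]
          exact A.mul_mem (A.inv_mem (hA.1 g)) a.2
      have hrn : r ∉ (MulAut.conj : S →* MulAut S).range := by
        rintro ⟨s, hs⟩
        obtain ⟨g, h | h⟩ := hOut (a : MulAut S)
        · exact ha ⟨g, h.symm⟩
        · exact ha ⟨g * s, by rw [map_mul, hs, h]⟩
      let r' : A := ⟨r, hrA⟩
      have hr' : r' * r' = 1 := Subtype.ext hr
      have hr1 : r' ≠ 1 := fun h => hrn ⟨1, by rw [map_one]; exact (congrArg Subtype.val h).symm⟩
      have hord : orderOf r' = 2 := orderOf_eq_prime (by rw [pow_two, hr']) hr1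
      have hk2 : k % 2 = 1 := by
        have h9 : 2 ∣ Nat.card A := by
          rw [← hord]
          exact orderOf_dvd_natCard r'
        have h10 : k.Coprime 2 := hk.coprime_dvd_right h9
        rcases Nat.even_or_odd k with h | h
        · exfalso
          obtain ⟨c, hc⟩ := h
          have h11 : 2 ∣ Nat.gcd k 2 := Nat.dvd_gcd ⟨c, by omega⟩ dvd_rfl
          rw [h10] at h11
          omega
        · exact Nat.odd_iff.1 h
      have hrk : r' ^ k = r' := by
        rw [← Nat.div_add_mod k 2, hk2, pow_add, pow_mul, pow_two, hr', one_pow, one_mul, pow_one]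
      have h13 := hall' r' hrn
      have h14 : χ' r' = (χ : A → ℂ) r' := by
        show (χ : A → ℂ) (r' ^ k) = _
        rw [hrk]
      rw [Pi.add_apply, h14] at h13
      have h15 : (χ : A → ℂ) r' = 0 := by
        have : 2 * (χ : A → ℂ) r' = 0 := by rw [two_mul]; exact h13
        exact (mul_eq_zero.1 this).resolve_left two_ne_zero
      rw [h8, one_mul] at hdeg
      exact ne_zero_of_invol (Core.isIrr_isCharacter χ.2) hr' hdeg hodd h15
  refine witA_of_char hM A hA.1 hinj (fun a ha hQ => Subtype.ext (hC a (by rwa [Subgroup.orderOf_coe]) hQ))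
    (Core.isIrr_isCharacter χ.2) (fun k hk _ a => hcyc k hk a) hdeg ?_ ?_
  · intro h
    rcases (Nat.Prime.dvd_mul hpp).1 h with h | h
    · exact hpm h
    · exact hpd h
  · intro θ' _ h'
    obtain ⟨h1, h2, -⟩ := hall θ' h'
    refine ⟨?_, h2, fun k hk _ s => pow_of_rat (Core.isIrr_isCharacter θ'.2) h1 hk s⟩
    rw [hn] at h' ⊢
    have h3 : n θ' ≠ 0 := by exact_mod_cast h'
    have h4 := hn1 θ'
    have h5 : n θ' = 1 := by omega
    rw [h5, Nat.cast_one]

end main

end Cfsg.Agent.H631.CY
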